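import Groth.Agent.S2936
import Groth.Agent.S3262
import Groth.Agent.S1806
import Groth.Agent.S5158
import Groth.Agent.LocH.TopDegree
import Groth.Agent.LocH.TopTensor
import Groth.Agent.LocH.ChangeRings
import Groth.Agent.HLVT.Complete
import Groth.Agent.EGA41FS.LiftUnique
import Groth.Agent.CanonDual.Matlis
import Groth.Agent.InjHull.Basic
import Groth.Agent.AdicBasics.Dimension
import Groth.Agent.FlatDepth.SupportDim
import Groth.Agent.CechX.BaseChange

/-!
The Matlis dual of the top local cohomology module with arbitrary support.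
-/

set_option autoImplicit false

namespace Groth.Agent.TopCoh

universe u

open CategoryTheory CategoryTheory.Limits IsLocalRing TensorProduct LocH

variable {R : Type u} [CommRing R] [IsNoetherianRing R] [IsLocalRing R]
  {I : Ideal R} {M : Type u} [AddCommGroup M] [Module R M] [Module.Finite R M] {n : ℕ}

/-- the dual primes -/
def topPrimes (I : Ideal R) (M : Type u) [AddCommGroup M] [Module R M] (n : ℕ) : Set (Ideal R) :=
  {p | p.IsPrime ∧ Module.annihilator R M ≤ p ∧ ringKrullDim (R ⧸ p) = n ∧ (I ⊔ p).radical = maximalIdeal R}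

omit [IsLocalRing R] in
lemma nontrivial_of_supportDim (hn : Module.supportDim R M = n) : Nontrivial M := by
  by_contra h
  rw [not_nontrivial_iff_subsingleton] at h
  rw [(Module.supportDim_eq_bot_iff_subsingleton R M).2 h] at hn
  exact WithBot.bot_ne_coe hn

omit [IsLocalRing R] in
lemma dim_le_of_le (hn : Module.supportDim R M = n) {q : Ideal R} (hq : Module.annihilator R M ≤ q) :
    ringKrullDim (R ⧸ q) ≤ n := by
  rw [← hn, Module.supportDim_eq_ringKrullDim_quotient_annihilator R M]
  exact ringKrullDim_le_of_surjective (Ideal.Quotient.factor hq) (Ideal.Quotient.factor_surjective hq)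

/-- A prime of top dimension in the support is associated. -/
lemma mem_associatedPrimes_top (hn : Module.supportDim R M = n) {p : Ideal R} [p.IsPrime]
    (hp : Module.annihilator R M ≤ p) (hd : ringKrullDim (R ⧸ p) = n) : p ∈ associatedPrimes R M := by
  obtain ⟨q, hq, hqp⟩ := Ideal.exists_minimalPrimes_le hp
  have heq : q = p := by
    by_contra hne
    obtain ⟨x, hxp, hxq⟩ := SetLike.not_le_iff_exists.1 (fun h => hne (le_antisymm hqp h))
    haveI := hq.1.1
    have h1 := supportDim_quotient_lt hxq (dim_le_of_le hn hq.1.2)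
    have h2 : Module.supportDim R (R ⧸ p) ≤ Module.supportDim R (QuotSMulTop x (R ⧸ q)) := by
      refine Order.krullDim_le_of_strictMono (fun a => ⟨a.1, ?_⟩) fun a b hab => hab
      rw [Module.support_quotSMulTop]
      exact ⟨mem_support_quotient_iff.2 (hqp.trans (mem_support_quotient_iff.1 a.2)),
        fun z hz => mem_support_quotient_iff.1 a.2 (Set.mem_singleton_iff.1 hz ▸ hxp)⟩
    rw [Module.supportDim_quotient_eq_ringKrullDim, hd] at h2
    exact absurd (h2.trans_lt h1) (lt_irrefl _)
  subst heq
  exact Module.associatedPrimes.minimalPrimes_annihilator_subset_associatedPrimes R M hq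

/-- The comparison with the support at the closed point. -/
lemma exists_surjective (hn : Module.supportDim R M = n) (hI : I ≤ maximalIdeal R) :
    ∃ ψ : LocCoh.H (maximalIdeal R) n M →ₗ[R] LocCoh.H I n M, Function.Surjective ψ :=
  ⟨_, (S1806.result R I (maximalIdeal R) hI M n).1 fun p _ hp =>
    subsingleton_of_supportDim_lt _ n _ (supportDim_localized_lt p.asIdeal (fun e => hp e.ge) hn)⟩

omit [IsLocalRing R] in
lemma subsingleton_top (i : ℕ) (N : Type u) [AddCommGroup N] [Module R N] :
    Subsingleton (LocCoh.H (⊤ : Ideal R) i N) := by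
  refine subsingleton_of_forall_eq 0 fun x => ?_
  obtain ⟨k, hk⟩ := LocH.isPowerTorsion (⊤ : Ideal R) i (ModuleCat.of R N) x
  exact (one_smul R x).symm.trans (hk 1 (by rw [Ideal.top_pow]; exact Submodule.mem_top))

omit [IsLocalRing R] in
/-- kernel of the reduction modulo an ideal in the top degree -/
lemma ker_le_smul (hn : Module.supportDim R M = n) (p : Ideal R) (h : LocCoh.H I n M)
    (hh : (localCohomology I n).map (ModuleCat.ofHom (p • (⊤ : Submodule R M)).mkQ) h = 0) :
    h ∈ p • (⊤ : Submodule R (LocCoh.H I n M)) := by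
  classical
  have hlt : Module.supportDim R M < ((n + 1 : ℕ) : WithBot ℕ∞) := by
    rw [hn]; exact_mod_cast Nat.lt_succ_self n
  let g : M →ₗ[R] M ⧸ p • (⊤ : Submodule R M) := (p • (⊤ : Submodule R M)).mkQ
  obtain ⟨y, hy⟩ := exact₂ (kerSES_shortExact (g := g) (Submodule.mkQ_surjective _)) n (x := h) hh
  obtain ⟨s, r, hr⟩ := Submodule.fg_iff_exists_fin_generating_family.1 (IsNoetherian.noetherian p)
  let π : (Fin s → M) →ₗ[R] LinearMap.ker g :=
    (∑ j : Fin s, r j • LinearMap.proj j).codRestrict (LinearMap.ker g) fun v => by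
      rw [LinearMap.mem_ker, Submodule.mkQ_apply, Submodule.Quotient.mk_eq_zero, LinearMap.sum_apply]
      exact sum_mem fun j _ => Submodule.smul_mem_smul (hr ▸ Submodule.subset_span ⟨j, rfl⟩) trivial
  have hπ : Function.Surjective π := by
    rintro ⟨z, hz⟩
    rw [LinearMap.mem_ker, Submodule.mkQ_apply, Submodule.Quotient.mk_eq_zero] at hz
    suffices hz' : z ∈ LinearMap.range (∑ j : Fin s, r j • (LinearMap.proj j : (Fin s → M) →ₗ[R] M)) by
      obtain ⟨v, hv⟩ := hz'
      exact ⟨v, Subtype.ext hv⟩
    refine Submodule.smul_induction_on hz (fun a ha w _ => ?_) fun a b ha hb => add_mem ha hb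
    rw [← hr, Submodule.mem_span_range_iff_exists_fun] at ha
    obtain ⟨c, rfl⟩ := ha
    refine ⟨fun j => c j • w, ?_⟩
    rw [LinearMap.sum_apply, Finset.sum_smul]
    refine Finset.sum_congr rfl fun j _ => ?_
    rw [LinearMap.smul_apply, LinearMap.proj_apply, smul_smul, smul_eq_mul, mul_comm]
  have hlt' : Module.supportDim R (Fin s → M) < ((n + 1 : ℕ) : WithBot ℕ∞) := by
    refine lt_of_le_of_lt ?_ hlt
    refine Order.krullDim_le_of_strictMono (fun a => ⟨a.1, ?_⟩) fun a b hab => hab
    refine Module.mem_support_iff_of_finite.2 (le_trans (fun c hc => ?_) (Module.mem_support_iff_of_finite.1 a.2))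
    exact Module.mem_annihilator.2 fun v => funext fun j => Module.mem_annihilator.1 hc (v j)
  obtain ⟨w, rfl⟩ := map_surjective_of_surjective (I := I) π hπ n hlt' y
  have hw : (localCohomology I n).map (ModuleCat.ofHom (∑ j : Fin s, r j • (LinearMap.proj j : (Fin s → M) →ₗ[R] M))) w = h := by
    rw [← hy]
    exact (LocH.map_comp_apply' _ (ModuleCat.ofHom π) (kerSES g).f n w).symm
  rw [← hw]
  have hsum : ModuleCat.ofHom (∑ j : Fin s, r j • (LinearMap.proj j : (Fin s → M) →ₗ[R] M))
      = ∑ j : Fin s, r j • ModuleCat.ofHom (LinearMap.proj j : (Fin s → M) →ₗ[R] M) := by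
    ext v
    simp
  rw [hsum, Functor.map_sum]
  simp only [ModuleCat.hom_sum, LinearMap.sum_apply]
  refine sum_mem fun j _ => ?_
  have hj := LocH.map_smul_apply (r j) (ModuleCat.ofHom (LinearMap.proj j : (Fin s → M) →ₗ[R] M)) n (I := I) w
  rw [hj]
  exact Submodule.smul_mem_smul (hr ▸ Submodule.subset_span ⟨j, rfl⟩) trivial

section Complete

variable [IsAdicComplete (maximalIdeal R) R]

/-- Lichtenbaum–Hartshorne for a module killed by a prime. -/
lemma subsingleton_of_killed {p : Ideal R} [p.IsPrime] (hd : ringKrullDim (R ⧸ p) = n) (hI : I ≤ maximalIdeal R)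
    (hne : (I ⊔ p).radical ≠ maximalIdeal R) (N : Type u) [AddCommGroup N] [Module R N]
    (hN : Module.IsTorsionBySet R N (p : Set R)) : Subsingleton (LocCoh.H I n N) := by
  letI := hN.module
  haveI : IsScalarTower R (R ⧸ p) N := hN.isScalarTower
  haveI : IsLocalRing (R ⧸ p) := IsLocalRing.of_surjective' _ Ideal.Quotient.mk_surjective
  haveI := EGA41FS.isAdicComplete_quotient p
  obtain ⟨φ, -⟩ := exists_semilinearEquiv (R' := R ⧸ p) I n N
  suffices h : Subsingleton ↑((localCohomology (I.map (algebraMap R (R ⧸ p))) n).obj (ModuleCat.of (R ⧸ p) N)) from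
    φ.symm.toEquiv.subsingleton
  refine HLVT.subsingleton_H_of_complete (R ⧸ p) hd _ (fun q hq _ => ?_) N n le_rfl
  obtain rfl : q = ⊥ := by
    have hbot : minimalPrimes (R ⧸ p) = {⊥} := IsDomain.minimalPrimes_eq_singleton_bot (R ⧸ p)
    rwa [hbot] at hq
  rw [sup_bot_eq, Ideal.Quotient.algebraMap_eq]
  have hne' : I ⊔ p ≤ maximalIdeal R := sup_le hI (le_maximalIdeal (Ideal.IsPrime.ne_top inferInstance))
  obtain ⟨P, hP, hPne⟩ : ∃ P ∈ (I ⊔ p).minimalPrimes, P ≠ maximalIdeal R := by
    by_contra h
    push Not at h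
    apply hne
    rw [← Ideal.sInf_minimalPrimes]
    exact le_antisymm (by
      obtain ⟨P, hP, -⟩ := Ideal.exists_minimalPrimes_le hne'
      exact (sInf_le hP).trans (h P hP).le) (le_sInf fun P hP => (h P hP).ge)
  haveI := hP.1.1
  rw [ringKrullDim_quotient, Order.one_le_krullDim_iff]
  have hpP : p ≤ P := le_sup_right.trans hP.1.2
  let mk := Ideal.Quotient.mk p
  have hsurj : Function.Surjective mk := Ideal.Quotient.mk_surjective
  have hker : RingHom.ker mk ≤ P := by rw [Ideal.mk_ker]; exact hpP
  haveI : (P.map mk).IsPrime := Ideal.map_isPrime_of_surjective hsurj hker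
  have hz : ∀ Q : Ideal R, I ≤ Q → p ≤ Q → I.map mk ≤ Q.map mk := fun Q h1 _ => Ideal.map_mono h1
  have hle : P.map mk ≤ maximalIdeal (R ⧸ p) := le_maximalIdeal (Ideal.IsPrime.ne_top inferInstance)
  refine ⟨⟨⟨P.map mk, inferInstance⟩, hz P (le_sup_left.trans hP.1.2) hpP⟩,
    ⟨⟨maximalIdeal (R ⧸ p), inferInstance⟩, (hz P (le_sup_left.trans hP.1.2) hpP).trans hle⟩,
    lt_of_le_of_ne hle fun e => hPne ?_⟩
  have he : P.map mk = maximalIdeal (R ⧸ p) := congrArg (fun x => x.1.asIdeal) e
  rw [← IsLocalRing.map_maximalIdeal_of_surjective mk hsurj] at he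
  have h2 := congrArg (Ideal.comap mk) he
  rw [Ideal.comap_map_of_surjective mk hsurj, Ideal.comap_map_of_surjective mk hsurj, ← RingHom.ker_eq_comap_bot,
    sup_eq_left.2 hker, sup_eq_left.2 (by rw [Ideal.mk_ker]; exact hpP.trans (le_maximalIdeal (Ideal.IsPrime.ne_top inferInstance)))] at h2
  exact h2

variable {E : Type u} [AddCommGroup E] [Module R E] {f : ResidueField R →ₗ[R] E} (hf : InjHull.IsInjectiveHull f)
include hf

lemma finite_dual (hn : Module.supportDim R M = n) (hI : I ≤ maximalIdeal R) :
    Module.Finite R (LocCoh.H I n M →ₗ[R] E) ∧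
      associatedPrimes R (LocCoh.H I n M →ₗ[R] E) ⊆ {p | p ∈ associatedPrimes R M ∧ ringKrullDim (R ⧸ p) = n} := by
  haveI := nontrivial_of_supportDim hn
  obtain ⟨ψ, hψ⟩ := exists_surjective hn hI
  obtain ⟨hfin, -, hass⟩ := S2936.result R E f hf M n hn
  haveI := (hfin n).1
  have hinj : Function.Injective (LinearMap.lcomp R E ψ) := fun a b h => LinearMap.ext fun x => by
    obtain ⟨z, rfl⟩ := hψ x
    exact LinearMap.congr_fun h z
  exact ⟨Module.Finite.of_injective _ hinj, (associatedPrimes.subset_of_injective hinj).trans hass.le⟩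

theorem associatedPrimes_dual (hn : Module.supportDim R M = n) :
    associatedPrimes R (LocCoh.H I n M →ₗ[R] E) = topPrimes I M n := by
  haveI := nontrivial_of_supportDim hn
  by_cases hI : I = ⊤
  · subst hI
    haveI := subsingleton_top (R := R) n M
    rw [associatedPrimes.eq_empty_of_subsingleton]
    refine (Set.eq_empty_of_forall_notMem fun p hp => ?_).symm
    have h := hp.2.2.2
    rw [top_sup_eq, Ideal.radical_top] at h
    exact (maximalIdeal.isMaximal R).ne_top h.symm
  have hIm : I ≤ maximalIdeal R := le_maximalIdeal hI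
  obtain ⟨hfin, hsub⟩ := finite_dual hf hn hIm
  have key : ∀ p : Ideal R, p.IsPrime → Module.annihilator R M ≤ p → ringKrullDim (R ⧸ p) = n →
      ((I ⊔ p).radical = maximalIdeal R ↔ p ∈ associatedPrimes R (LocCoh.H I n M →ₗ[R] E)) := by
    intro p hp hann hd
    let N := M ⧸ p • (⊤ : Submodule R M)
    have hN : Module.IsTorsionBySet R N (p : Set R) := fun x a => by
      obtain ⟨y, rfl⟩ := (p • (⊤ : Submodule R M)).mkQ_surjective x
      rw [← map_smul, Submodule.mkQ_apply, Submodule.Quotient.mk_eq_zero]
      exact Submodule.smul_mem_smul a.2 trivial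
    let ρ : LocCoh.H I n M →ₗ[R] LocCoh.H I n N :=
      ((localCohomology I n).map (ModuleCat.ofHom (p • (⊤ : Submodule R M)).mkQ)).hom
    have hρ : Function.Surjective ρ := map_surjective_of_surjective _ (Submodule.mkQ_surjective _) n
      (by rw [hn]; exact_mod_cast Nat.lt_succ_self n)
    constructor
    · intro hrad
      have hNdim : Module.supportDim R N = n := by
        rw [← hd, ← Module.supportDim_quotient_eq_ringKrullDim, Module.supportDim, Module.supportDim]
        refine congrArg (fun S : Set (PrimeSpectrum R) => Order.krullDim S) ?_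
        ext q
        rw [Module.support_quotient, Set.mem_inter_iff, mem_support_quotient_iff, PrimeSpectrum.mem_zeroLocus]
        exact ⟨fun h => h.2, fun h => ⟨Module.mem_support_iff_of_finite.2 (hann.trans h), h⟩⟩
      have hNI : Nontrivial (LocCoh.H I n N) := by
        have h0 := nontrivial_at_supportDim N n hNdim
        rw [← not_subsingleton_iff_nontrivial] at h0 ⊢
        intro hs
        refine h0 ((subsingleton_iff_of_radical_eq (by rw [hrad, (maximalIdeal.isMaximal R).isPrime.radical]) N n).1
          ((subsingleton_sup_iff N (fun x => ⟨1, fun a ha => @hN x ⟨a, by rwa [pow_one] at ha⟩⟩) n).1 hs))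
      obtain ⟨z, hz⟩ := exists_ne (0 : LocCoh.H I n N)
      obtain ⟨g, hg⟩ : ∃ g : LocCoh.H I n N →ₗ[R] E, g z ≠ 0 := by
        by_contra h
        push Not at h
        exact hz (CanonDual.eq_zero_of_forall_dual hf z h)
      have hkill : ∀ a ∈ p, ∀ y : LocCoh.H I n N, a • y = 0 := fun a ha y =>
        smul_eq_zero_of_smul_eq_zero (s := a) (fun x => @hN x ⟨a, ha⟩) n y
      let φ := g ∘ₗ ρ
      have hφ : φ ≠ 0 := fun h0 => hg (by
        obtain ⟨x, rfl⟩ := hρ z
        exact LinearMap.congr_fun h0 x)
      have hφp : p ≤ LinearMap.ker (LinearMap.toSpanSingleton R _ φ) := fun a ha =>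
        LinearMap.ext fun x => by
          show a • g (ρ x) = 0
          rw [← map_smul, hkill a ha, map_zero]
      obtain ⟨q, hq, hle⟩ := exists_le_isAssociatedPrime_of_isNoetherianRing R φ hφ
      obtain ⟨hq1, hq2⟩ := hsub hq
      have hpq : p ≤ q := fun a ha => hle (Submodule.mem_colon_singleton.2 (by
        rw [Submodule.mem_bot]; exact LinearMap.mem_ker.1 (hφp ha)))
      haveI := hq1.1
      have : p = q := by
        by_contra hne
        obtain ⟨x, hxq, hxp⟩ := SetLike.not_le_iff_exists.1 (fun h => hne (le_antisymm hpq h))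
        have h1 := supportDim_quotient_lt hxp hd.le
        have h2 : Module.supportDim R (R ⧸ q) ≤ Module.supportDim R (QuotSMulTop x (R ⧸ p)) := by
          refine Order.krullDim_le_of_strictMono (fun a => ⟨a.1, ?_⟩) fun a b hab => hab
          rw [Module.support_quotSMulTop]
          exact ⟨mem_support_quotient_iff.2 (hpq.trans (mem_support_quotient_iff.1 a.2)),
            fun w hw => mem_support_quotient_iff.1 a.2 (Set.mem_singleton_iff.1 hw ▸ hxq)⟩
        rw [Module.supportDim_quotient_eq_ringKrullDim, hq2] at h2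
        exact absurd (h2.trans_lt h1) (lt_irrefl _)
      exact this ▸ hq
    · intro hass
      by_contra hne
      haveI := subsingleton_of_killed hd hIm hne N hN
      obtain ⟨-, φ, hφann⟩ := (isAssociatedPrime_iff_exists_injective_linearMap p _).1 hass
      have hb : φ (Submodule.Quotient.mk (1 : R)) = 0 := by
        refine LinearMap.ext fun x => ?_
        have hx : x ∈ p • (⊤ : Submodule R (LocCoh.H I n M)) := ker_le_smul hn p x (Subsingleton.elim (α := LocCoh.H I n N) _ _)
        refine Submodule.smul_induction_on hx (fun a ha y _ => ?_) fun a b ha hb => by simp only [map_add, ha, hb, LinearMap.zero_apply, add_zero]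
        rw [map_smul, ← LinearMap.smul_apply, ← map_smul, LinearMap.zero_apply]
        have : a • (Submodule.Quotient.mk (1 : R) : R ⧸ p) = 0 := by
          rw [← Submodule.Quotient.mk_smul, Submodule.Quotient.mk_eq_zero, smul_eq_mul, mul_one]; exact ha
        rw [this, map_zero, LinearMap.zero_apply]
      rw [← map_zero φ] at hb
      exact hp.ne_top ((Ideal.eq_top_iff_one p).2 ((Submodule.Quotient.mk_eq_zero p).1 (hφann hb)))
  ext p
  constructor
  · intro hp
    obtain ⟨h1, h2⟩ := hsub hp
    have hann : Module.annihilator R M ≤ p := Submodule.annihilator_top.ge.trans (IsAssociatedPrime.annihilator_le h1)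
    exact ⟨h1.1, hann, h2, (key p h1.1 hann h2).2 hp⟩
  · rintro ⟨h1, h2, h3, h4⟩
    exact (key p h1 h2 h3).1 h4

omit hf in
/-- Over a complete ring `I` and the annihilator of the top module generate a primary ideal. -/
theorem exists_pow_le_sup_annihilator (hn : Module.supportDim R M = n) (hI : I ≤ maximalIdeal R) :
    ∃ N : ℕ, maximalIdeal R ^ N ≤ I ⊔ Module.annihilator R (LocCoh.H I n M) := by
  obtain ⟨E, _, _, f, hf⟩ := InjHull.exists_isInjectiveHull R (ResidueField R)
  haveI := (finite_dual hf hn hI).1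
  let D := LocCoh.H I n M →ₗ[R] E
  have hann : Module.annihilator R D ≤ Module.annihilator R (LocCoh.H I n M) := fun a ha =>
    Module.mem_annihilator.2 fun x => CanonDual.eq_zero_of_forall_dual hf _ fun g => by
      rw [map_smul, ← LinearMap.smul_apply, Module.mem_annihilator.1 ha g, LinearMap.zero_apply]
  suffices h : maximalIdeal R ≤ (I ⊔ Module.annihilator R D).radical by
    obtain ⟨N, hN⟩ := Ideal.exists_pow_le_of_le_radical_of_fg h (IsNoetherian.noetherian _)
    exact ⟨N, hN.trans (sup_le_sup_left hann I)⟩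
  rw [← Ideal.sInf_minimalPrimes]
  refine le_sInf fun P hP => ?_
  haveI := hP.1.1
  obtain ⟨q, hq, hqP⟩ := Ideal.exists_minimalPrimes_le (le_sup_right.trans hP.1.2)
  have hq' : q ∈ associatedPrimes R D :=
    Module.associatedPrimes.minimalPrimes_annihilator_subset_associatedPrimes R D hq
  rw [associatedPrimes_dual hf hn] at hq'
  rw [← hq'.2.2.2]
  exact (Ideal.IsPrime.radical_le_iff inferInstance).2 (sup_le (le_sup_left.trans hP.1.2) hqP)

end Complete

end Groth.Agent.TopCoh
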