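import Groth.Agent.TopCoh.Main
import Groth.Agent.ExtCompare.Basic
import Groth.Agent.CanonDual.Exist

/-!
The top local cohomology module is cofinite with respect to its support ideal.
-/

set_option autoImplicit false

namespace Groth.Agent.TopCoh

universe u

open CategoryTheory CategoryTheory.Limits IsLocalRing TensorProduct LocH CategoryTheory.Abelian

variable {R : Type u} [CommRing R] [IsNoetherianRing R]

/-- Artinian modules killed by a power of a maximal ideal have finite length. -/
theorem isFiniteLength_of_artinian (m : Ideal R) [m.IsMaximal] (k : ℕ) :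
    ∀ (M : Type u) [AddCommGroup M] [Module R M], IsArtinian R M →
      (∀ a ∈ m ^ k, ∀ x : M, a • x = 0) → IsFiniteLength R M := by
  induction k with
  | zero =>
    intro M _ _ _ h
    have : Subsingleton M :=
      subsingleton_of_forall_eq 0 fun x => by simpa using h 1 (by simp) x
    exact .of_subsingleton
  | succ k ih =>
    intro M _ _ hart h
    let N : Submodule R M := m • ⊤
    have hN : IsFiniteLength R N := by
      refine ih N inferInstance fun a ha => ?_
      rintro ⟨x, hx⟩
      refine Subtype.ext ?_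
      show a • x = 0
      refine Submodule.smul_induction_on hx (fun b hb y _ => ?_)
        (fun y z hy hz => by rw [smul_add, hy, hz, add_zero])
      rw [smul_smul]
      exact h _ (by rw [pow_succ]; exact Ideal.mul_mem_mul ha hb) y
    have hQ : Module.IsTorsionBySet R (M ⧸ N) (m : Set R) := by
      intro x a
      obtain ⟨y, rfl⟩ := N.mkQ_surjective x
      rw [← map_smul, Submodule.mkQ_apply, Submodule.Quotient.mk_eq_zero]
      exact Submodule.smul_mem_smul a.2 Submodule.mem_top
    let := Ideal.Quotient.field m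
    let := hQ.module
    have hss' : IsSemisimpleModule (R ⧸ m) (M ⧸ N) := inferInstance
    have hss : IsSemisimpleModule R (M ⧸ N) := hQ.isSemisimpleModule_iff.1 hss'
    have hfin : Module.Finite R (M ⧸ N) :=
      ((IsSemisimpleModule.finite_tfae (R := R) (M := M ⧸ N)).out 2 0).1 (inferInstance : IsArtinian R (M ⧸ N))
    obtain ⟨_, _⟩ := isFiniteLength_iff_isNoetherian_isArtinian.1 hN
    exact isFiniteLength_iff_isNoetherian_isArtinian.2
      ⟨isNoetherian_of_range_eq_ker N.subtype N.mkQ (by simp), hart⟩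

/-- Dimension shifting. -/
theorem isArtinian_of_ses {S : ShortComplex (ModuleCat.{u} R)} (hS : S.ShortExact) [Projective S.X₂]
    (Y : ModuleCat.{u} R) (i : ℕ) (h : IsArtinian R (Ext S.X₁ Y i)) : IsArtinian R (Ext S.X₃ Y (i + 1)) := by
  let δ : Ext S.X₁ Y i →ₗ[R] Ext S.X₃ Y (i + 1) :=
    { toFun := fun φ => hS.extClass.comp φ (add_comm 1 i)
      map_add' := fun _ _ => Ext.comp_add _ _ _ _
      map_smul' := fun r φ => by simp [Ext.comp_smul] }
  refine isArtinian_of_surjective _ δ fun x => ?_
  obtain ⟨x₁, hx₁⟩ := Ext.contravariant_sequence_exact₃ hS Y x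
    (Ext.eq_zero_of_projective _) (n₀ := i) (add_comm 1 i)
  exact ⟨x₁, hx₁⟩

/-- Ext from a finite module into an artinian module is artinian. -/
theorem isArtinian_ext : ∀ (i : ℕ) (X : Type u) [AddCommGroup X] [Module R X] [Module.Finite R X]
    (H : Type u) [AddCommGroup H] [Module R H] [IsArtinian R H],
    IsArtinian R (Ext (ModuleCat.of R X) (ModuleCat.of R H) i) := by
  intro i
  induction i with
  | zero =>
    intro X _ _ _ H _ _ _
    obtain ⟨s, π, hπ⟩ := Module.Finite.exists_fin' R X
    let ev : (X →ₗ[R] H) →ₗ[R] (Fin s → H) := LinearMap.pi fun j => LinearMap.applyₗ (π (Pi.single j 1))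
    have hev : Function.Injective ev := by
      intro a b h
      refine LinearMap.ext fun x => ?_
      obtain ⟨v, rfl⟩ := hπ x
      have : a ∘ₗ π = b ∘ₗ π := (Pi.basisFun R (Fin s)).ext fun j => by
        simpa [ev] using congrFun h j
      exact LinearMap.congr_fun this v
    haveI : IsArtinian R (X →ₗ[R] H) := isArtinian_of_injective ev hev
    exact isArtinian_of_linearEquiv
      ((Ext.linearEquiv₀ (R := R) (X := ModuleCat.of R X) (Y := ModuleCat.of R H)).trans ModuleCat.homLinearEquiv).symm
  | succ i ih =>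
    intro X _ _ _ H _ _ _
    obtain ⟨s, π, hπ⟩ := Module.Finite.exists_fin' R X
    haveI : Projective (LocH.kerSES π).X₂ := inferInstanceAs (Projective (ModuleCat.of R (Fin s → R)))
    exact isArtinian_of_ses (LocH.kerSES_shortExact (g := π) hπ) (ModuleCat.of R H) i
      (ih (LinearMap.ker π) H)

variable [IsLocalRing R] {I : Ideal R} {M : Type u} [AddCommGroup M] [Module R M] [Module.Finite R M] {n : ℕ}

/-- A power of the maximal ideal acts through endomorphisms with coefficients in `I`. -/
theorem exists_pow_mem_smul (hn : Module.supportDim R M = n) (hI : I ≤ maximalIdeal R) :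
    ∃ N : ℕ, ∀ a ∈ maximalIdeal R ^ N,
      a • (LinearMap.id : LocCoh.H I n M →ₗ[R] LocCoh.H I n M) ∈
        I • (⊤ : Submodule R (LocCoh.H I n M →ₗ[R] LocCoh.H I n M)) := by
  let A := AdicCompletion (maximalIdeal R) R
  let H := LocCoh.H I n M
  haveI : IsAdicComplete (maximalIdeal A) A := inferInstance
  haveI := nontrivial_of_supportDim hn
  have hF : Module.supportDim A (A ⧸ ((maximalIdeal R).map (algebraMap R A) • (⊤ : Submodule A A))) = 0 := by
    rw [smul_eq_mul, Ideal.mul_top, Module.supportDim_quotient_eq_ringKrullDim, ← AdicCompletion.maximalIdeal_eq_map]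
    exact ringKrullDim_eq_zero_of_field (ResidueField A)
  haveI : Module.Finite A (A ⊗[R] M) := FlatDepth.finite_tensor (A := R) (B := A) M A
  have hdim : Module.supportDim A (A ⊗[R] M) = n := by
    refine le_antisymm ?_ ?_
    · exact (FlatDepth.supportDim_tensor_le (A := R) (B := A) M A).trans (by rw [hn, hF, add_zero])
    · exact le_trans (by rw [hn, hF, add_zero]) (FlatDepth.supportDim_tensor_ge (A := R) (B := A) M A)
  have hIA : I.map (algebraMap R A) ≤ maximalIdeal A := by
    rw [AdicCompletion.maximalIdeal_eq_map]; exact Ideal.map_mono hI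
  obtain ⟨N, hN⟩ := exists_pow_le_sup_annihilator (I := I.map (algebraMap R A)) hdim hIA
  obtain ⟨e⟩ := CechX.nonempty_H_baseChange (R' := A) I (ModuleCat.of R M) n
  have htor : LocCoh.IsPowerTorsion (maximalIdeal R) H := by
    obtain ⟨ψ, hψ⟩ := exists_surjective hn hI
    intro x
    obtain ⟨y, rfl⟩ := hψ x
    obtain ⟨k, hk⟩ := LocH.isPowerTorsion (maximalIdeal R) n (ModuleCat.of R M) y
    exact ⟨k, fun a ha => by rw [← map_smul, hk a ha, map_zero]⟩
  have hj : Function.Bijective (TensorProduct.mk R A H 1) := S5158.result R H htor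
  let j : H ≃ₗ[R] A ⊗[R] H := LinearEquiv.ofBijective _ hj
  let L : A →ₗ[R] (H →ₗ[R] H) :=
    { toFun := fun b => j.symm.toLinearMap ∘ₗ ((LinearMap.lsmul A (A ⊗[R] H) b).restrictScalars R) ∘ₗ j.toLinearMap
      map_add' := fun b c => LinearMap.ext fun x => by simp [add_smul]
      map_smul' := fun r b => LinearMap.ext fun x => by simp [smul_assoc] }
  have hLmap : ∀ a : R, L (algebraMap R A a) = a • LinearMap.id := fun a => LinearMap.ext fun x => by
    show j.symm (algebraMap R A a • j x) = a • x
    rw [algebraMap_smul, map_smul, j.symm_apply_apply]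
  refine ⟨N, fun a ha => ?_⟩
  have haA : algebraMap R A a ∈ maximalIdeal A ^ N := by
    rw [AdicCompletion.maximalIdeal_eq_map, ← Ideal.map_pow]
    exact Ideal.mem_map_of_mem _ ha
  obtain ⟨i', hi', c, hc, hic⟩ := Submodule.mem_sup.1 (hN haA)
  have hLc : L c = 0 := LinearMap.ext fun x => by
    have h0 : c • (j x : A ⊗[R] H) = 0 := e.injective (by
      rw [map_smul, map_zero]; exact Module.mem_annihilator.1 hc _)
    show j.symm (c • j x) = 0
    rw [h0, map_zero]
  rw [← hLmap, ← hic, map_add, hLc, add_zero]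
  have hi'' : i' ∈ I • (⊤ : Submodule R A) := by rw [Ideal.smul_top_eq_map]; exact hi'
  have := Submodule.mem_map_of_mem (f := L) hi''
  rw [Submodule.map_smul''] at this
  exact Submodule.smul_mono le_rfl le_top this

theorem isFiniteLength_ext (hn : Module.supportDim R M = n) (i : ℕ) :
    IsFiniteLength R (Ext (ModuleCat.of R (R ⧸ I)) (ModuleCat.of R (LocCoh.H I n M)) i) := by
  let H := LocCoh.H I n M
  by_cases hI : I = ⊤
  · subst hI
    haveI : Subsingleton (R ⧸ (⊤ : Ideal R)) := Ideal.Quotient.subsingleton_iff.2 rfl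
    have hz : IsZero (ModuleCat.of R (R ⧸ (⊤ : Ideal R))) := ModuleCat.isZero_of_subsingleton _
    haveI : Subsingleton (Ext (ModuleCat.of R (R ⧸ (⊤ : Ideal R))) (ModuleCat.of R H) i) :=
      subsingleton_of_forall_eq 0 fun x => by
        rw [← Ext.mk₀_id_comp x, hz.eq_of_src (𝟙 _) 0, Ext.mk₀_zero, Ext.zero_comp]
    exact .of_subsingleton
  have hIm : I ≤ maximalIdeal R := le_maximalIdeal hI
  haveI := nontrivial_of_supportDim hn
  haveI : IsArtinian R H := S3262.result R I M n hn
  obtain ⟨N, hN⟩ := exists_pow_mem_smul hn hIm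
  refine isFiniteLength_of_artinian (maximalIdeal R) N _ (isArtinian_ext i (R ⧸ I) H) fun a ha x => ?_
  let X := ModuleCat.of R (R ⧸ I)
  let T : (H →ₗ[R] H) →ₗ[R] Ext X (ModuleCat.of R H) i :=
    { toFun := fun φ => x.comp (Ext.mk₀ (ModuleCat.ofHom φ)) (add_zero i)
      map_add' := fun φ ψ => by rw [ModuleCat.ofHom_add, Ext.mk₀_add, Ext.comp_add]
      map_smul' := fun r φ => by
        rw [RingHom.id_apply]
        show x.comp (Ext.mk₀ (r • ModuleCat.ofHom φ)) (add_zero i) = _
        rw [Ext.mk₀_smul, Ext.comp_smul] }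
  have hIkill : ∀ r ∈ I, ∀ z : Ext X (ModuleCat.of R H) i, r • z = 0 := fun r hr z => by
    have h0 : r • 𝟙 X = 0 := by
      refine ModuleCat.hom_ext (LinearMap.ext fun y => ?_)
      show r • (y : R ⧸ I) = 0
      obtain ⟨b, rfl⟩ := Ideal.Quotient.mk_surjective y
      exact Ideal.Quotient.eq_zero_iff_mem.2 (Ideal.mul_mem_right b I hr)
    rw [← Ext.mk₀_id_comp z, ← Ext.smul_comp, ← Ext.mk₀_smul, h0, Ext.mk₀_zero, Ext.zero_comp]
  have hT : T LinearMap.id = x := by
    show x.comp (Ext.mk₀ (𝟙 _)) (add_zero i) = x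
    rw [Ext.comp_mk₀_id]
  rw [← hT, ← map_smul]
  refine Submodule.smul_induction_on (hN a ha) (fun r hr φ _ => ?_) fun φ ψ hφ hψ => by
    rw [map_add, hφ, hψ, add_zero]
  rw [map_smul, hIkill r hr]

end Groth.Agent.TopCoh
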